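import Mathlib

/-!
If a Sylow `p`-subgroup `P` of an automorphism group `L` of an abelian `p`-group `A` has the same
order as its fixed space `Z`, every element of `P#` has fixed space exactly `Z`, `[A, P] ≤ Z`, and
`P` is not normal, then no nontrivial `L`-invariant subgroup lies in `Z`.
-/

set_option autoImplicit false

namespace Cfsg.Agent.H21.ExoticSL

variable {A : Type*} [Group A] [Finite A]

/-- The subgroup of `L` fixing `Z` and acting trivially modulo `Z`. -/
def stabSeries (L : Subgroup (MulAut A)) (Z : Subgroup A) : Subgroup L where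
  carrier := {l | (∀ z ∈ Z, (l : MulAut A) z = z) ∧ ∀ a, (l : MulAut A) a * a⁻¹ ∈ Z}
  one_mem' := ⟨fun z _ => rfl, fun a => by simp⟩
  mul_mem' {x y} hx hy := by
    refine ⟨fun z hz => ?_, fun a => ?_⟩
    · show (x : MulAut A) ((y : MulAut A) z) = z
      rw [hy.1 z hz, hx.1 z hz]
    · show (x : MulAut A) ((y : MulAut A) a) * a⁻¹ ∈ Z
      have := Z.mul_mem (hx.2 ((y : MulAut A) a)) (hy.2 a)
      simpa [mul_assoc] using this
  inv_mem' {x} hx := by
    have hfix : ∀ z ∈ Z, ((x⁻¹ : L) : MulAut A) z = z := fun z hz => by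
      conv_lhs => rw [← hx.1 z hz]
      simp
    refine ⟨hfix, fun a => ?_⟩
    have h1 := hx.2 (((x⁻¹ : L) : MulAut A) a)
    simp only [Subgroup.coe_inv, MulAut.apply_inv_self] at h1 ⊢
    simpa using Z.inv_mem h1

theorem isPGroup_stabSeries {p : ℕ} [Fact p.Prime] (hAp : IsPGroup p A)
    (L : Subgroup (MulAut A)) (Z : Subgroup A) : IsPGroup p (stabSeries L Z) := by
  obtain ⟨e, he⟩ := IsPGroup.iff_card.1 hAp
  rintro ⟨l, hl1, hl2⟩
  refine ⟨e, Subtype.ext (Subtype.ext (MulEquiv.ext fun a => ?_))⟩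
  have key : ∀ n : ℕ, ((l : MulAut A) ^ n) a = ((l : MulAut A) a * a⁻¹) ^ n * a := by
    intro n
    induction n with
    | zero => simp
    | succ n ih =>
      rw [pow_succ', MulAut.mul_apply, ih, map_mul, map_pow, hl1 _ (hl2 a)]
      rw [pow_succ]
      group
  show ((l : MulAut A) ^ p ^ e) a = a
  rw [key, ← he, pow_card_eq_one', one_mul]

theorem eq_bot_of_invariant (hA : ∀ a b : A, a * b = b * a) {p : ℕ} [Fact p.Prime]
    (hAp : IsPGroup p A) (L : Subgroup (MulAut A)) (P : Sylow p L)
    (hP : ¬ (P : Subgroup L).Normal) (Z : Subgroup A)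
    (hfix : ∀ x ∈ (P : Subgroup L), ∀ z ∈ Z, (x : MulAut A) z = z)
    (hC : ∀ x ∈ (P : Subgroup L), x ≠ 1 → ∀ a, (x : MulAut A) a = a → a ∈ Z)
    (hcomm : ∀ x ∈ (P : Subgroup L), ∀ a, (x : MulAut A) a * a⁻¹ ∈ Z)
    (hcard : Nat.card Z ≤ Nat.card (P : Subgroup L))
    (Q : Subgroup A) (hQZ : Q ≤ Z) (hQinv : ∀ l ∈ L, ∀ a ∈ Q, l a ∈ Q) : Q = ⊥ := by
  classical
  have : Finite (MulAut A) := Finite.of_injective (fun e : MulAut A => (e : A → A)) DFunLike.coe_injective
  have hKP : stabSeries L Z = (P : Subgroup L) :=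
    P.is_maximal' (isPGroup_stabSeries hAp L Z) fun x hx => ⟨hfix x hx, hcomm x hx⟩
  let img : L → Subgroup A := fun g => Z.map (g : MulAut A).toMonoidHom
  have hmem : ∀ (g : L) (a : A), a ∈ img g ↔ ((g : MulAut A))⁻¹ a ∈ Z := fun g a => by
    constructor
    · rintro ⟨b, hb, rfl⟩; simpa using hb
    · intro h; exact ⟨_, h, by simp⟩
  have hnorm : ∀ g : L, img g = Z → ∀ x ∈ (P : Subgroup L), g * x * g⁻¹ ∈ (P : Subgroup L) := by
    intro g hg x hx
    rw [← hKP] at hx ⊢
    refine ⟨fun z hz => ?_, fun a => ?_⟩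
    · have h1 : ((g : MulAut A))⁻¹ z ∈ Z := (hmem g z).1 (hg.symm ▸ hz)
      show (g : MulAut A) ((x : MulAut A) (((g : MulAut A))⁻¹ z)) = z
      rw [hx.1 _ h1, MulAut.apply_inv_self]
    · show (g : MulAut A) ((x : MulAut A) (((g : MulAut A))⁻¹ a)) * a⁻¹ ∈ Z
      have h1 := hx.2 (((g : MulAut A))⁻¹ a)
      have h2 : (g : MulAut A) ((x : MulAut A) (((g : MulAut A))⁻¹ a) * (((g : MulAut A))⁻¹ a)⁻¹) ∈ img g :=
        ⟨_, h1, rfl⟩
      rwa [hg, map_mul, map_inv, MulAut.apply_inv_self] at h2
  set T := {g : L | img g ≠ Z} with hT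
  have hTne : T.Nonempty := by
    by_contra h
    rw [Set.not_nonempty_iff_eq_empty] at h
    refine hP ⟨fun x hx g => hnorm g ?_ x hx⟩
    by_contra hg
    have : g ∈ T := hg
    rw [h] at this; exact this
  obtain ⟨g, hgT, hmax⟩ := Set.exists_max_image T (fun g => Nat.card ↥(Z ⊓ img g)) T.toFinite hTne
  set W := Z ⊓ img g with hW
  have hcimg : ∀ g : L, Nat.card (img g) = Nat.card Z := fun g =>
    Subgroup.card_map_of_injective (g : MulAut A).injective
  obtain ⟨z', hz', hz'Z⟩ : ∃ z' ∈ img g, z' ∉ Z := by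
    by_contra h
    push Not at h
    exact hgT (Subgroup.eq_of_le_of_card_ge h (hcimg g).ge)
  have : Z.Normal := ⟨fun z hz a => by rwa [hA a z, mul_inv_cancel_right]⟩
  have hWn : (W.subgroupOf Z).Normal :=
    ⟨fun z hz a => by
      rw [Subgroup.mem_subgroupOf] at hz ⊢
      push_cast
      rwa [hA (a : A), mul_inv_cancel_right]⟩
  have key : ∀ x ∈ (P : Subgroup L), x ≠ 1 → (x : MulAut A) z' * z'⁻¹ ∉ W := by
    intro x hx hx1 hc
    set g' := g⁻¹ * x * g with hg'
    have hxz : (x : MulAut A) z' ≠ z' := fun h => hz'Z (hC x hx hx1 z' h)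
    have hg'T : g' ∈ T := by
      intro hcon
      have hn := hnorm g' hcon
      -- `g'` is a `p`-element normalising `P`
      have hg'P : g' ∈ (P : Subgroup L) := by
        have hle : Subgroup.zpowers g' ≤ Subgroup.normalizer ((P : Subgroup L) : Set L) := by
          rw [Subgroup.zpowers_le]
          exact Subgroup.mem_normalizer_iff.2 fun y => ⟨fun hy => hn y hy, fun hy => by
            obtain ⟨m, hm⟩ : ∃ m : ℕ, g'⁻¹ = g' ^ m := ⟨orderOf g' - 1, by
              refine inv_eq_of_mul_eq_one_right ?_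
              rw [← pow_succ', Nat.sub_add_cancel (orderOf_pos g'), pow_orderOf_eq_one]⟩
            have hk : ∀ k : ℕ, ∀ w ∈ (P : Subgroup L), g' ^ k * w * (g' ^ k)⁻¹ ∈ (P : Subgroup L) := by
              intro k
              induction k with
              | zero => intro w hw; simpa using hw
              | succ k ih =>
                intro w hw
                have := hn _ (ih w hw)
                rw [pow_succ']
                convert this using 1
                group
            have := hk m _ hy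
            rw [← hm] at this
            convert this using 1
            group⟩
        have hzp : IsPGroup p (Subgroup.zpowers g') := by
          obtain ⟨k, hk⟩ := P.isPGroup' ⟨x, hx⟩
          have hxk : x ^ p ^ k = 1 := by simpa using congrArg Subtype.val hk
          have hgk : g' ^ p ^ k = 1 := by
            rw [hg', show g⁻¹ * x * g = g⁻¹ * x * g⁻¹⁻¹ by rw [inv_inv], conj_pow, hxk]; simp
          rintro ⟨y, hy⟩
          obtain ⟨i, rfl⟩ := Subgroup.mem_zpowers_iff.1 hy
          refine ⟨k, Subtype.ext ?_⟩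
          rw [SubmonoidClass.coe_pow, OneMemClass.coe_one, ← zpow_natCast, ← zpow_mul, mul_comm,
            zpow_mul, zpow_natCast, hgk, one_zpow]
        have := P.is_maximal' (hzp.to_sup_of_normal_right' P.isPGroup' hle) le_sup_right
        exact this ▸ Subgroup.mem_sup_left (Subgroup.mem_zpowers g')
      refine hxz ?_
      have h1 := hfix g' hg'P _ ((hmem g z').1 hz')
      have h2 := congrArg (g : MulAut A) h1
      simpa [hg'] using h2
    -- but then the intersection grows
    have hle := hmax g' hg'T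
    let e : MulAut A := (g : MulAut A)⁻¹
    have hinj : Function.Injective e.toMonoidHom := e.injective
    have hlt : W < (img g ⊓ Z.map ((x : MulAut A) * (g : MulAut A)).toMonoidHom) := by
      refine lt_of_le_of_ne (fun w hw => ⟨hw.2, ?_⟩) fun heq => ?_
      · obtain ⟨b, hb, hbe⟩ := hw.2
        refine ⟨b, hb, ?_⟩
        show (x : MulAut A) ((g : MulAut A) b) = w
        rw [show (g : MulAut A) b = w from hbe, hfix x hx w hw.1]
      · have hzm : z' ∈ img g ⊓ Z.map ((x : MulAut A) * (g : MulAut A)).toMonoidHom := by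
          refine ⟨hz', ?_⟩
          obtain ⟨b, hb, hbe⟩ := (img g).mul_mem ((img g).inv_mem hc.2) hz'
          refine ⟨b, hb, ?_⟩
          show (x : MulAut A) ((g : MulAut A) b) = z'
          rw [show (g : MulAut A) b = ((x : MulAut A) z' * z'⁻¹)⁻¹ * z' from hbe, map_mul, map_inv,
            hfix x hx _ hc.1]
          simp
        rw [← heq] at hzm
        exact hz'Z hzm.1
    have h3 : (img g ⊓ Z.map ((x : MulAut A) * (g : MulAut A)).toMonoidHom).map e.toMonoidHom
        = Z ⊓ img g' := by
      rw [Subgroup.map_inf _ _ _ hinj]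
      congr 1
      · show (Z.map (g : MulAut A).toMonoidHom).map e.toMonoidHom = Z
        rw [Subgroup.map_map]
        convert Subgroup.map_id Z using 2
        ext a; simp [e]
      · show (Z.map _).map e.toMonoidHom = Z.map _
        rw [Subgroup.map_map]
        congr 1
    have h4 := Subgroup.card_map_of_injective (K := img g ⊓ Z.map ((x : MulAut A) * (g : MulAut A)).toMonoidHom) hinj
    rw [h3] at h4
    rw [h4] at hle
    exact absurd (Subgroup.eq_of_le_of_card_ge hlt.le hle) hlt.ne
  let φ : (P : Subgroup L) →* Z ⧸ W.subgroupOf Z :=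
    MonoidHom.mk' (fun x => QuotientGroup.mk ⟨((x : L) : MulAut A) z' * z'⁻¹, hcomm x x.2 z'⟩)
      fun x y => by
        rw [← QuotientGroup.mk_mul]
        congr 1
        apply Subtype.ext
        show ((x : L) : MulAut A) (((y : L) : MulAut A) z') * z'⁻¹ = _
        have h1 := hcomm y y.2 z'
        have h2 : ((x : L) : MulAut A) (((y : L) : MulAut A) z') =
            ((y : L) : MulAut A) z' * z'⁻¹ * ((x : L) : MulAut A) z' := by
          conv_lhs => rw [show ((y : L) : MulAut A) z' = ((y : L) : MulAut A) z' * z'⁻¹ * z' by group]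
          rw [map_mul, hfix x x.2 _ h1]
        rw [h2, mul_assoc]
        exact hA _ _
  have hφ : Function.Injective φ := by
    rw [injective_iff_map_eq_one]
    intro x hx
    by_contra h
    exact key x x.2 (fun e => h (Subtype.ext e)) (by simpa [φ, Subgroup.mem_subgroupOf] using hx)
  have hle := (Nat.card_le_card_of_injective φ hφ)
  have hmul := Subgroup.card_eq_card_quotient_mul_card_subgroup (W.subgroupOf Z)
  have hW1 : Nat.card (W.subgroupOf Z) = 1 := by
    have h1 : 0 < Nat.card (W.subgroupOf Z) := Nat.card_pos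
    have h2 : 0 < Nat.card (Z ⧸ W.subgroupOf Z) := Nat.card_pos
    nlinarith
  have hWbot : W = ⊥ := by
    have := Nat.card_congr (Subgroup.subgroupOfEquivOfLe (inf_le_left : W ≤ Z)).toEquiv
    exact Subgroup.eq_bot_of_card_eq _ (this.symm.trans hW1)
  rw [eq_bot_iff, ← hWbot]
  intro a ha
  exact ⟨hQZ ha, (hmem g a).2 (hQZ (hQinv _ (L.inv_mem g.2) a ha))⟩

end Cfsg.Agent.H21.ExoticSL
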