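import Cfsg.Agent.H70.AutPSL.Transv

/-!
The Sylow `p`-subgroups of `SL₃` in the defining characteristic: order `q³`, centre of order `q`,
derived group in the centre and abelian centralisers of order `q²` outside the centre.
-/

set_option autoImplicit false

namespace Cfsg.Agent.H21.ExoticSL

open Matrix Cfsg.Agent.H70.AutPSL

/-- The properties of the Heisenberg group of order `q³` used in the proof. -/
structure IsHeis (S : Type*) [Group S] (q : ℕ) : Prop where
  one_lt : 1 < q
  card : Nat.card S = q ^ 3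
  card_center : Nat.card (Subgroup.center S) = q
  comm : ∀ x y : S, x * y * x⁻¹ * y⁻¹ ∈ Subgroup.center S
  cent : ∀ x : S, x ∉ Subgroup.center S →
    (∀ a b : S, a * x = x * a → b * x = x * b → a * b = b * a) ∧
      Nat.card {a : S // a * x = x * a} = q ^ 2

theorem IsHeis.of_equiv {S S' : Type*} [Group S] [Group S'] {q : ℕ} (e : S ≃* S')
    (h : IsHeis S' q) : IsHeis S q := by
  have hc : ∀ x, x ∈ Subgroup.center S ↔ e x ∈ Subgroup.center S' := by
    intro x
    rw [Subgroup.mem_center_iff, Subgroup.mem_center_iff]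
    exact ⟨fun hx g => by rw [← e.apply_symm_apply g, ← map_mul, ← map_mul, hx],
      fun hx g => e.injective (by rw [map_mul, map_mul, hx])⟩
  refine ⟨h.one_lt, by rw [Nat.card_congr e.toEquiv, h.card], ?_, fun x y => ?_, fun x hx => ?_⟩
  · rw [← h.card_center]
    exact Nat.card_congr (e.toEquiv.subtypeEquiv hc)
  · rw [hc]; simpa using h.comm (e x) (e y)
  · obtain ⟨h1, h2⟩ := h.cent (e x) (fun h => hx ((hc x).2 h))
    refine ⟨fun a b ha hb => e.injective ?_, ?_⟩
    · rw [map_mul, map_mul]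
      exact h1 _ _ (by rw [← map_mul, ha, map_mul]) (by rw [← map_mul, hb, map_mul])
    · rw [← h2]
      exact Nat.card_congr (e.toEquiv.subtypeEquiv fun a => by
        show a * x = x * a ↔ e a * e x = e x * e a
        rw [← map_mul, ← map_mul, e.injective.eq_iff])

variable {F : Type*} [Field F]

local notation "SL3" => Matrix.SpecialLinearGroup (Fin 3) F

/-- The unitriangular element with the given coordinates. -/
def heisElt (a b c : F) : SL3 :=
  ⟨!![1, a, c; 0, 1, b; 0, 0, 1], by simp [Matrix.det_fin_three]⟩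

theorem heisElt_mul (a b c a' b' c' : F) :
    heisElt a b c * heisElt a' b' c' = heisElt (a + a') (b + b') (c + c' + a * b') := by
  apply Subtype.ext
  rw [Matrix.SpecialLinearGroup.coe_mul]
  show !![1, a, c; 0, 1, b; 0, 0, 1] * !![1, a', c'; 0, 1, b'; 0, 0, 1] =
    (!![1, a + a', c + c' + a * b'; 0, 1, b + b'; 0, 0, 1] : Matrix (Fin 3) (Fin 3) F)
  ext i j
  fin_cases i <;> fin_cases j <;>
    simp [Matrix.mul_apply, Fin.sum_univ_three] <;> ring

theorem heisElt_inj {a b c a' b' c' : F} (h : heisElt a b c = heisElt a' b' c') :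
    a = a' ∧ b = b' ∧ c = c' := by
  have h' : (!![1, a, c; 0, 1, b; 0, 0, 1] : Matrix (Fin 3) (Fin 3) F) =
      !![1, a', c'; 0, 1, b'; 0, 0, 1] := congrArg Subtype.val h
  exact ⟨by simpa using congrFun (congrFun h' 0) 1, by simpa using congrFun (congrFun h' 1) 2,
    by simpa using congrFun (congrFun h' 0) 2⟩

theorem mem_unitri_iff [Finite F] (u : SL3) : u ∈ unitri 3 F ↔ ∃ a b c, u = heisElt a b c := by
  constructor
  · intro hu
    refine ⟨u.1 0 1, u.1 1 2, u.1 0 2, Subtype.ext ?_⟩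
    ext i j
    have := fun h => hu i j h
    simp only [Matrix.sub_apply] at this
    fin_cases i <;> fin_cases j <;> simp [heisElt] <;>
      simp [sub_eq_zero] at this <;> exact this
  · rintro ⟨a, b, c, rfl⟩ i j hij
    fin_cases i <;> fin_cases j <;> simp [heisElt] at hij ⊢

theorem isHeis_sylow [Fintype F] {p : ℕ} [Fact p.Prime] [CharP F p] (T : Sylow p SL3) :
    IsHeis (T : Subgroup SL3) (Nat.card F) := by
  classical
  have hU : IsPGroup p (unitri 3 F) := fun u =>
    ⟨3, Subtype.ext (by simpa using pow_eq_one_of_strictUpper (p := p) u.2)⟩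
  obtain ⟨P, hP⟩ := hU.exists_le_sylow
  obtain ⟨P', hP'⟩ := exists_sylow_unitri (n := 3) (F := F) (p := p)
  have hPU : (P : Subgroup SL3) = unitri 3 F := by
    refine le_antisymm (fun x hx => ?_) hP
    have hmax := P'.is_maximal' (P.isPGroup'.map (proj : SL3 →* _)) (hP' ▸ Subgroup.map_mono hP)
    have : proj x ∈ (P' : Subgroup (Matrix.ProjectiveSpecialLinearGroup (Fin 3) F)) :=
      hmax ▸ ⟨x, hx, rfl⟩
    rw [hP'] at this
    obtain ⟨u, hu, hux⟩ := this
    obtain ⟨k, hk⟩ := P.isPGroup' ⟨x, hx⟩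
    rw [← eq_of_proj_eq (p := p) hux (pow_eq_one_of_strictUpper hu) (l := k)
      (by simpa using congrArg Subtype.val hk)]
    exact hu
  suffices IsHeis (unitri 3 F) (Nat.card F) from
    this.of_equiv ((Sylow.equiv T P).trans (MulEquiv.subgroupCongr hPU))
  let mk : F × F × F → unitri 3 F := fun x => ⟨heisElt x.1 x.2.1 x.2.2, (mem_unitri_iff _).2 ⟨_, _, _, rfl⟩⟩
  have hbij : Function.Bijective mk := by
    constructor
    · intro x y h
      obtain ⟨h1, h2, h3⟩ := heisElt_inj (congrArg Subtype.val h)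
      exact Prod.ext h1 (Prod.ext h2 h3)
    · rintro ⟨u, hu⟩
      obtain ⟨a, b, c, rfl⟩ := (mem_unitri_iff u).1 hu
      exact ⟨(a, b, c), rfl⟩
  have hcomm : ∀ x y, mk x * mk y = mk y * mk x ↔ x.1 * y.2.1 = y.1 * x.2.1 := by
    intro x y
    refine ⟨fun h => ?_, fun h => Subtype.ext ?_⟩
    · have h' : heisElt _ _ _ * heisElt _ _ _ = heisElt _ _ _ * heisElt _ _ _ := congrArg Subtype.val h
      rw [heisElt_mul, heisElt_mul] at h'
      linear_combination (heisElt_inj h').2.2
    · show heisElt _ _ _ * heisElt _ _ _ = heisElt _ _ _ * heisElt _ _ _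
      rw [heisElt_mul, heisElt_mul]
      congr 1
      · ring
      · ring
      · linear_combination h
  have hcen : ∀ x, mk x ∈ Subgroup.center (unitri 3 F) ↔ x.1 = 0 ∧ x.2.1 = 0 := by
    intro x
    rw [Subgroup.mem_center_iff]
    constructor
    · intro h
      have h1 := (hcomm (1, 0, 0) x).1 (h _)
      have h2 := (hcomm (0, 1, 0) x).1 (h _)
      simp at h1 h2
      exact ⟨h2.symm, h1⟩
    · intro ⟨h1, h2⟩ u
      obtain ⟨y, rfl⟩ := hbij.2 u
      exact (hcomm y x).2 (by simp [h1, h2])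
  refine ⟨Finite.one_lt_card, ?_, ?_, ?_, ?_⟩
  · rw [← Nat.card_congr (Equiv.ofBijective mk hbij), Nat.card_prod, Nat.card_prod]; ring
  · refine (Nat.card_congr (Equiv.ofBijective
      (fun c : F => (⟨mk (0, 0, c), (hcen _).2 ⟨rfl, rfl⟩⟩ : Subgroup.center (unitri 3 F))) ⟨?_, ?_⟩)).symm
    · intro c c' h
      exact (Prod.ext_iff.1 (Prod.ext_iff.1 (hbij.1 (congrArg Subtype.val h))).2).2
    · rintro ⟨u, hu⟩
      obtain ⟨⟨a, b, c⟩, rfl⟩ := hbij.2 u
      obtain ⟨h1, h2⟩ := (hcen _).1 hu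
      exact ⟨c, by simp only at h1 h2; subst h1 h2; rfl⟩
  · intro x y
    rw [Subgroup.mem_center_iff]
    intro g
    obtain ⟨xx, rfl⟩ := hbij.2 x
    obtain ⟨yy, rfl⟩ := hbij.2 y
    obtain ⟨w, hw⟩ := hbij.2 (mk xx * mk yy * (mk xx)⁻¹ * (mk yy)⁻¹)
    obtain ⟨gg, rfl⟩ := hbij.2 g
    rw [← hw]
    refine (hcomm gg w).2 ?_
    have h : (mk w : SL3) * (mk yy : SL3) * (mk xx : SL3) = (mk xx : SL3) * (mk yy : SL3) := by
      rw [← Subgroup.coe_mul, ← Subgroup.coe_mul, ← Subgroup.coe_mul, hw]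
      congr 1
      group
    simp only [mk, heisElt_mul] at h
    obtain ⟨h1, h2, -⟩ := heisElt_inj h
    have e1 : w.1 = 0 := by linear_combination h1
    have e2 : w.2.1 = 0 := by linear_combination h2
    rw [e1, e2]; ring
  · intro x hx
    obtain ⟨⟨a, b, c⟩, rfl⟩ := hbij.2 x
    rw [hcen, not_and_or] at hx
    simp only at hx
    have hpar : ∀ y : F × F × F, mk y * mk (a, b, c) = mk (a, b, c) * mk y →
        ∃ t, y.1 = t * a ∧ y.2.1 = t * b := by
      intro y hy
      have h := (hcomm _ _).1 hy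
      simp only at h
      rcases hx with ha | hb
      · exact ⟨y.1 / a, by field_simp, by field_simp; linear_combination -h⟩
      · exact ⟨y.2.1 / b, by field_simp; linear_combination h, by field_simp⟩
    refine ⟨fun u v hu hv => ?_, ?_⟩
    · obtain ⟨y, rfl⟩ := hbij.2 u
      obtain ⟨z, rfl⟩ := hbij.2 v
      obtain ⟨s, hs1, hs2⟩ := hpar y hu
      obtain ⟨t, ht1, ht2⟩ := hpar z hv
      exact (hcomm y z).2 (by rw [hs1, hs2, ht1, ht2]; ring)
    · rw [sq, ← Nat.card_prod]
      refine (Nat.card_congr (Equiv.ofBijective (fun r : F × F =>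
        (⟨mk (r.1 * a, r.1 * b, r.2), (hcomm _ _).2 (by simp only; ring)⟩ :
          {u : unitri 3 F // u * mk (a, b, c) = mk (a, b, c) * u})) ⟨?_, ?_⟩)).symm
      · intro r r' h
        have h' := hbij.1 (congrArg Subtype.val h)
        simp only [Prod.mk.injEq] at h'
        refine Prod.ext ?_ h'.2.2
        rcases hx with ha | hb
        · exact mul_right_cancel₀ ha h'.1
        · exact mul_right_cancel₀ hb h'.2.1
      · rintro ⟨u, hu⟩
        obtain ⟨y, rfl⟩ := hbij.2 u
        obtain ⟨t, h1, h2⟩ := hpar y hu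
        exact ⟨(t, y.2.2), by apply Subtype.ext; simp [← h1, ← h2]⟩

end Cfsg.Agent.H21.ExoticSL
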