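import Cfsg.Agent.H21.ExoticSL.FixedSpace
import Cfsg.Agent.H21.ExoticSL.Model
import Cfsg.Agent.H93.Normal
import Cfsg.Agent.H93.PearlData
import Cfsg.Agent.H93.Model

/-!
A saturated fusion system on a group with the Heisenberg properties and a nontrivial normal
subgroup is constrained.
-/

set_option autoImplicit false

namespace Cfsg.Agent.H21.ExoticSL

open Cfsg Cfsg.FusionSystem
open Cfsg.Agent.H93

universe u

variable {Ω : Type u} [Group Ω] {S : Subgroup Ω} [Finite S] {F : FusionSystem S} {p : ℕ}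
  [Fact p.Prime] {q : ℕ}

omit [Finite S] in
theorem mem_cent {x : Ω} {P : Subgroup Ω} :
    x ∈ centralizerIn S P ↔ x ∈ S ∧ ∀ g ∈ P, g * x = x * g := by
  rw [centralizerIn, Subgroup.mem_inf, Subgroup.mem_centralizer_iff]
  rfl

theorem mem_centralizerIn_self {x : Ω} (hx : x ∈ S) :
    x ∈ centralizerIn S S ↔ (⟨x, hx⟩ : S) ∈ Subgroup.center S := by
  rw [mem_cent, Subgroup.mem_center_iff]
  exact ⟨fun h g => Subtype.ext (h.2 g g.2),
    fun h => ⟨hx, fun g hg => congrArg Subtype.val (h ⟨g, hg⟩)⟩⟩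

theorem card_center_eq (hH : IsHeis S q) : Nat.card (centralizerIn S S) = q := by
  rw [← hH.card_center]
  exact Nat.card_congr
    { toFun := fun z => ⟨⟨z, z.2.1⟩, (mem_centralizerIn_self z.2.1).1 z.2⟩
      invFun := fun z => ⟨(z : S), (mem_centralizerIn_self (z : S).2).2 z.2⟩
      left_inv := fun z => rfl
      right_inv := fun z => rfl }

theorem commutes_of_commutes (hH : IsHeis S q) {x a b : Ω} (hx : x ∈ S)
    (hx' : x ∉ centralizerIn S S) (ha : a ∈ S) (hb : b ∈ S) (hax : a * x = x * a)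
    (hbx : b * x = x * b) : a * b = b * a :=
  congrArg Subtype.val ((hH.cent ⟨x, hx⟩ fun h => hx' ((mem_centralizerIn_self hx).2 h)).1
    ⟨a, ha⟩ ⟨b, hb⟩ (Subtype.ext hax) (Subtype.ext hbx))

theorem center_le_of_centric {E : Subgroup Ω} (hc : F.IsCentric E) :
    centralizerIn S S ≤ E := by
  refine le_trans ?_ (hc.2 E (isConj_refl F hc.1))
  intro z hz
  rw [mem_cent] at hz ⊢
  exact ⟨hz.1, fun g hg => hz.2 g (hc.1 hg)⟩

theorem le_normalizer_of_center_le (hH : IsHeis S q) {E : Subgroup Ω} (hES : E ≤ S)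
    (hZE : centralizerIn S S ≤ E) : S ≤ Subgroup.normalizer (E : Set Ω) := by
  have key : ∀ s ∈ S, ∀ a ∈ E, s * a * s⁻¹ ∈ E := by
    intro s hs a ha
    have h := hH.comm ⟨s, hs⟩ ⟨a, hES ha⟩
    have h' : s * a * s⁻¹ * a⁻¹ ∈ E := hZE ((mem_centralizerIn_self _).2 h)
    simpa using E.mul_mem h' ha
  intro s hs
  refine Subgroup.mem_normalizer_iff.2 fun a => ⟨key s hs a, fun h => ?_⟩
  have := key s⁻¹ (S.inv_mem hs) _ h
  simpa [mul_assoc] using this

theorem essential_comm (hS : IsPGroup p S) (hF : F.IsSaturated p) (hH : IsHeis S q)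
    {E : Subgroup Ω} (hE : F.IsEssential p E) : ∀ a b : E, a * b = b * a := by
  classical
  by_contra hcon
  push Not at hcon
  obtain ⟨a, b, hab⟩ := hcon
  have hES := hE.1.1
  have : Finite E := H93.finite_of_le hES
  have : Finite (MulAut E) := finite_mulAut hES
  have hZE := center_le_of_centric hE.1
  have hcen : ∀ z : E, z ∈ Subgroup.center E ↔ (z : Ω) ∈ centralizerIn S S := by
    intro z
    constructor
    · intro hz
      by_contra hz'
      rw [Subgroup.mem_center_iff] at hz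
      exact hab (Subtype.ext (commutes_of_commutes hH (hES z.2) hz' (hES a.2) (hES b.2)
        (congrArg Subtype.val (hz a)) (congrArg Subtype.val (hz b))))
    · intro hz
      rw [Subgroup.mem_center_iff]
      exact fun g => Subtype.ext ((mem_cent.1 hz).2 g (hES g.2))
  refine IsEssential.ne_self hS hF hE (le_antisymm hES fun s hs => ?_)
  set K := stabSeries (F.autGroup E) (Subgroup.center E) with hK
  have hKn : K.Normal := by
    refine ⟨fun x hx g => ⟨fun z hz => ?_, fun c => ?_⟩⟩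
    · have h1 : ((g : MulAut E))⁻¹ z ∈ Subgroup.center E := by
        rw [Subgroup.mem_center_iff] at hz ⊢
        intro w
        apply ((g : MulAut E)).injective
        simp [hz]
      show (g : MulAut E) ((x : MulAut E) (((g : MulAut E))⁻¹ z)) = z
      rw [hx.1 _ h1, MulAut.apply_inv_self]
    · have h1 := hx.2 (((g : MulAut E))⁻¹ c)
      show (g : MulAut E) ((x : MulAut E) (((g : MulAut E))⁻¹ c)) * c⁻¹ ∈ Subgroup.center E
      rw [Subgroup.mem_center_iff] at h1 ⊢
      intro w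
      have := congrArg (g : MulAut E) (h1 (((g : MulAut E))⁻¹ w))
      simpa using this
  have hsN : s ∈ normalizerIn S E :=
    ⟨hs, le_normalizer_of_center_le hH hES hZE hs⟩
  set α := conjAut S E ⟨s, hsN⟩ with hα
  have hαF : α ∈ F.autGroup E :=
    autInducedBy_le_autGroup F hES (by rw [autInducedBy_eq_range]; exact ⟨_, rfl⟩)
  have hαK : (⟨α, hαF⟩ : F.autGroup E) ∈ K := by
    refine ⟨fun z hz => Subtype.ext ?_, fun c => (hcen _).2 ?_⟩
    · show ((α z : E) : Ω) = z
      rw [hα, conjAut_apply]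
      show s * (z : Ω) * s⁻¹ = z
      rw [(mem_cent.1 ((hcen z).1 hz)).2 s hs, mul_inv_cancel_right]
    · show ((α c : E) : Ω) * (c : Ω)⁻¹ ∈ centralizerIn S S
      rw [hα, conjAut_apply]
      exact (mem_centralizerIn_self _).2 (hH.comm ⟨s, hs⟩ ⟨c, hES c.2⟩)
  have hmem : α ∈ Inn E := by
    rw [← (IsEssential.isRadical hS hE).2]
    exact ⟨⟨α, hαF⟩, H19.le_pCore hKn
      (isPGroup_stabSeries (hS.to_le hES) (F.autGroup E) (Subgroup.center E)) hαK, rfl⟩
  rw [inn_eq_autInducedBy, mem_autInducedBy] at hmem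
  obtain ⟨e, he, hee⟩ := hmem
  have : e⁻¹ * s ∈ centralizerIn S E := by
    rw [mem_cent]
    refine ⟨S.mul_mem (S.inv_mem (hES he)) hs, fun c hc => ?_⟩
    have h := hee ⟨c, hc⟩
    rw [hα, conjAut_apply] at h
    have h' : s * c * s⁻¹ = e * c * e⁻¹ := h
    calc c * (e⁻¹ * s) = e⁻¹ * (e * c * e⁻¹) * s := by group
      _ = e⁻¹ * s * c := by rw [← h']; group
  simpa using E.mul_mem he (hE.1.2 E (isConj_refl F hES) this)

theorem essential_spec (hS : IsPGroup p S) (hF : F.IsSaturated p) (hH : IsHeis S q)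
    {E : Subgroup Ω} (hE : F.IsEssential p E) {x : Ω} (hx : x ∈ E)
    (hx' : x ∉ centralizerIn S S) :
    (∀ a, a ∈ E ↔ a ∈ S ∧ a * x = x * a) ∧ Nat.card E = q ^ 2 := by
  have hES := hE.1.1
  have hcomm := essential_comm hS hF hH hE
  have hiff : ∀ a, a ∈ E ↔ a ∈ S ∧ a * x = x * a := by
    intro a
    refine ⟨fun ha => ⟨hES ha, congrArg Subtype.val (hcomm ⟨a, ha⟩ ⟨x, hx⟩)⟩, fun ⟨ha, hax⟩ => ?_⟩
    refine hE.1.2 E (isConj_refl F hES) (mem_cent.2 ⟨ha, fun b hb => ?_⟩)
    exact commutes_of_commutes hH (hES hx) hx' (hES hb) ha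
      (congrArg Subtype.val (hcomm ⟨b, hb⟩ ⟨x, hx⟩)) hax
  refine ⟨hiff, ?_⟩
  rw [← (hH.cent ⟨x, hES hx⟩ fun h => hx' ((mem_centralizerIn_self _).2 h)).2]
  exact Nat.card_congr
    { toFun := fun a => ⟨⟨a, hES a.2⟩, Subtype.ext ((hiff a).1 a.2).2⟩
      invFun := fun a => ⟨(a : S), (hiff _).2 ⟨(a : S).2, congrArg Subtype.val a.2⟩⟩
      left_inv := fun a => rfl
      right_inv := fun a => rfl }

theorem exists_not_mem_center (hH : IsHeis S q) {E : Subgroup Ω} (hc : F.IsCentric E) :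
    ∃ x ∈ E, x ∉ centralizerIn S S := by
  by_contra h
  push Not at h
  have hle : S ≤ centralizerIn S E := fun s hs => mem_cent.2
    ⟨hs, fun e he => ((mem_cent.1 (h e he)).2 s hs).symm⟩
  have hSZ : S ≤ centralizerIn S S := fun s hs => h s (hc.2 E (isConj_refl F hc.1) (hle hs))
  have h1 := Subgroup.card_le_of_le (H := S) (K := S) le_rfl
  have : Finite (centralizerIn S S : Subgroup Ω) := H93.finite_of_le (centralizerIn_le S S)
  have h2 := Subgroup.card_le_of_le hSZ
  rw [hH.card, card_center_eq hH] at h2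
  have := hH.one_lt
  have h3 : q ^ 1 < q ^ 3 := Nat.pow_lt_pow_right hH.one_lt (by norm_num)
  rw [pow_one] at h3
  omega

theorem eq_bot_of_le_center (hS : IsPGroup p S) (hF : F.IsSaturated p) (hH : IsHeis S q)
    {E Q : Subgroup Ω} (hE : F.IsEssential p E) (hQ : F.IsNormal Q)
    (hQZ : Q ≤ centralizerIn S S) : Q = ⊥ := by
  classical
  have hES := hE.1.1
  have : Finite E := H93.finite_of_le hES
  have : Finite (MulAut E) := finite_mulAut hES
  have hcomm := essential_comm hS hF hH hE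
  obtain ⟨x₀, hx₀, hx₀'⟩ := exists_not_mem_center hH hE.1
  have hcE := (essential_spec hS hF hH hE hx₀ hx₀').2
  have hZE := center_le_of_centric hE.1
  obtain ⟨-, R, hR⟩ := (H94.fullyNormalized_spec hS hF hE.2.1).1
  have hNE : normalizerIn S E = S :=
    le_antisymm inf_le_left (le_inf le_rfl (le_normalizer_of_center_le hH hES hZE))
  have hCE : centralizerIn S E = E := by
    refine le_antisymm (hE.1.2 E (isConj_refl F hES)) fun a ha => ?_
    exact mem_cent.2 ⟨hES ha, fun b hb => congrArg Subtype.val (hcomm ⟨b, hb⟩ ⟨a, ha⟩)⟩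
  have hcard : Nat.card (R : Subgroup (F.autGroup E)) = q := by
    rw [hR, Nat.card_congr (Subgroup.subgroupOfEquivOfLe (autInducedBy_le_autGroup F hES)).toEquiv]
    have h := card_autInducedBy_mul S E
    rw [hNE, hCE, hcE, hH.card, pow_succ' q 2] at h
    exact Nat.eq_of_mul_eq_mul_right (pow_pos (by have := hH.one_lt; omega) 2) h
  have hRn : ¬ (R : Subgroup (F.autGroup E)).Normal := by
    intro hn
    have h1 : (R : Subgroup (F.autGroup E)).map (F.autGroup E).subtype ≤ Inn E := by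
      rw [← (IsEssential.isRadical hS hE).2]
      exact Subgroup.map_mono (H19.le_pCore hn R.isPGroup')
    have h2 : (R : Subgroup (F.autGroup E)) = ⊥ := by
      rw [eq_bot_iff]
      intro r hr
      have h3 := h1 ⟨r, hr, rfl⟩
      rw [inn_eq_autInducedBy, mem_autInducedBy] at h3
      obtain ⟨e, he, hee⟩ := h3
      rw [Subgroup.mem_bot]
      refine Subtype.ext (MulEquiv.ext fun c => Subtype.ext ?_)
      refine (hee c).trans ?_
      have := congrArg Subtype.val (hcomm ⟨e, he⟩ c)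
      simp only [Subgroup.coe_mul] at this
      rw [this, mul_inv_cancel_right]
      rfl
    rw [h2, Subgroup.card_bot] at hcard
    have := hH.one_lt
    omega
  have hind : ∀ r ∈ (R : Subgroup (F.autGroup E)), ∃ s ∈ S,
      ∀ c : E, (((r : MulAut E) c : E) : Ω) = s * (c : Ω) * s⁻¹ := by
    intro r hr
    rw [hR, Subgroup.mem_subgroupOf] at hr
    exact mem_autInducedBy.1 hr
  have hbot : Q.subgroupOf E = ⊥ := by
    refine eq_bot_of_invariant hcomm (hS.to_le hES) (F.autGroup E) R hRn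
      ((centralizerIn S S).subgroupOf E) ?_ ?_ ?_ ?_ (Q.subgroupOf E) (Subgroup.comap_mono hQZ) ?_
    · intro r hr z hz
      obtain ⟨s, hs, hr⟩ := hind r hr
      refine Subtype.ext ((hr z).trans ?_)
      exact mul_inv_eq_iff_eq_mul.2 ((mem_cent.1 hz).2 s hs)
    · intro r hr hr1 a hfixa
      by_contra ha
      obtain ⟨s, hs, hr'⟩ := hind r hr
      apply hr1
      have hsa : s * (a : Ω) = a * s := by
        have h := hr' a
        rw [hfixa] at h
        exact (mul_inv_eq_iff_eq_mul.1 h.symm)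
      have hsE := ((essential_spec hS hF hH hE a.2 ha).1 s).2 ⟨hs, hsa⟩
      refine Subtype.ext (MulEquiv.ext fun c => Subtype.ext ((hr' c).trans ?_))
      have := congrArg Subtype.val (hcomm ⟨s, hsE⟩ c)
      simp only [Subgroup.coe_mul] at this
      rw [this, mul_inv_cancel_right]
      rfl
    · intro r hr a
      obtain ⟨s, hs, hr⟩ := hind r hr
      rw [Subgroup.mem_subgroupOf, Subgroup.coe_mul, Subgroup.coe_inv, hr]
      exact (mem_centralizerIn_self _).2 (hH.comm ⟨s, hs⟩ ⟨a, hES a.2⟩)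
    · rw [Nat.card_congr (Subgroup.subgroupOfEquivOfLe hZE).toEquiv, card_center_eq hH, hcard]
    · intro l hl a ha
      exact IsNormal.aut_mem hQ hES hl a ha
  rw [eq_bot_iff]
  intro a ha
  have : (⟨a, hZE (hQZ ha)⟩ : E) ∈ Q.subgroupOf E := ha
  rw [hbot, Subgroup.mem_bot] at this
  exact congrArg Subtype.val this

theorem core_eq_bot (hS : IsPGroup p S) (hF : F.IsSaturated p) (hH : IsHeis S q)
    (hnr : ¬ F.IsRealizable p) : F.core = ⊥ := by
  classical
  by_contra hne
  obtain ⟨Q, hQ, hQne⟩ : ∃ Q, F.IsNormal Q ∧ Q ≠ ⊥ := by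
    by_contra h
    push Not at h
    exact hne (eq_bot_iff.2 (sSup_le fun Q hQ => (h Q hQ).le))
  suffices h : ∃ R, F.IsNormal R ∧ F.IsCentric R by
    obtain ⟨R, hR, hc⟩ := h
    obtain ⟨σ, hσ⟩ := Models.exists_section hR hS hF
    obtain ⟨hfin, hreal, hsyl, -⟩ := Models.isModel hc hσ hS hF
    exact hnr ⟨_, inferInstance, hfin, _, hreal, hsyl⟩
  by_cases hno : ∀ E, ¬ F.IsEssential p E
  · refine ⟨S, isNormal_of_essential hS hF fun U hU => ?_, le_rfl, fun Q' hQ' => ?_⟩
    · obtain rfl := hU.resolve_right (hno U)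
      exact ⟨le_rfl, fun α _ x _ => (α x).2⟩
    · obtain ⟨φ, hφ, rfl⟩ := hQ'
      have hle : φ.range ≤ S := range_le hφ
      have hEq : φ.range = S := by
        refine Subgroup.eq_of_le_of_card_ge hle ?_
        exact (Nat.card_congr (MonoidHom.ofInjective (F.injective_of_mem hφ)).toEquiv).le
      rw [hEq]; exact centralizerIn_le S S
  push Not at hno
  obtain ⟨E, hE⟩ := hno
  have hQE : ∀ U, F.IsEssential p U → Q ≤ U := fun U hU =>
    IsNormal.le_centric_radical hS hQ hU.1 (IsEssential.isRadical hS hU)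
  obtain ⟨x, hxQ, hx⟩ : ∃ x ∈ Q, x ∉ centralizerIn S S := by
    by_contra h
    push Not at h
    exact hQne (eq_bot_of_le_center hS hF hH hE hQ h)
  refine ⟨E, isNormal_of_essential hS hF fun U hU => ?_, hE.1⟩
  have hspec := (essential_spec hS hF hH hE (hQE E hE hxQ) hx).1
  rcases hU with rfl | hU
  · refine ⟨hE.1.1, fun α hα a ha => ?_⟩
    set x' : U := α ⟨x, hQ.1 hxQ⟩ with hx'
    have hx'Q : (x' : Ω) ∈ Q := IsNormal.aut_mem hQ le_rfl hα _ hxQ
    have hx'Z : (x' : Ω) ∉ centralizerIn U U := by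
      intro h
      rw [mem_centralizerIn_self x'.2, Subgroup.mem_center_iff] at h
      apply hx
      rw [mem_centralizerIn_self (hQ.1 hxQ), Subgroup.mem_center_iff]
      intro g
      apply α.injective
      rw [map_mul, map_mul]
      exact h (α g)
    refine ((essential_spec hS hF hH hE (hQE E hE hx'Q) hx'Z).1 _).2 ⟨(α a).2, ?_⟩
    have h1 : a * ⟨x, hQ.1 hxQ⟩ = ⟨x, hQ.1 hxQ⟩ * a := Subtype.ext ((hspec _).1 ha).2
    have h2 := congrArg α h1
    rw [map_mul, map_mul] at h2
    exact congrArg Subtype.val h2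
  · have hUE : E = U := by
      ext a
      rw [hspec, (essential_spec hS hF hH hU (hQE U hU hxQ) hx).1]
    subst hUE
    exact ⟨le_rfl, fun α _ a _ => (α a).2⟩

end Cfsg.Agent.H21.ExoticSL
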